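import Cfsg.Agent.Loc.ZC
import Cfsg.Agent.Loc.TT
import Cfsg.Agent.Small.A7a

/-! The 2-group `(C × C) ⋊ (2 × 2)` (`C` cyclic, inversion and swap) and fusion of involutions in a simple group with
such a Sylow 2-subgroup. -/

set_option autoImplicit false
set_option linter.unusedSectionVars false

namespace Cfsg.Agent.Syl2.G2

open Subgroup

/-- The model group. -/
@[ext] structure Md (C : Type*) where
  /-- first torus coordinate -/
  i : C
  /-- second torus coordinate -/
  j : C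
  /-- inversion -/
  s : Bool
  /-- swap -/
  t : Bool

namespace Md
variable {C : Type*} [AddCommGroup C]

/-- sign -/
def sg (b : Bool) (c : C) : C := cond b (-c) c

@[simp] theorem sg_t (c : C) : sg true c = -c := rfl
@[simp] theorem sg_f (c : C) : sg false c = c := rfl

instance instMulMd : Mul (Md C) := ⟨fun x y => ⟨x.i + sg x.s (cond x.t y.j y.i), x.j + sg x.s (cond x.t y.i y.j),
  xor x.s y.s, xor x.t y.t⟩⟩
instance instOneMd : One (Md C) := ⟨⟨0, 0, false, false⟩⟩
instance instInvMd : Inv (Md C) := ⟨fun x => ⟨-sg x.s (cond x.t x.j x.i), -sg x.s (cond x.t x.i x.j), x.s, x.t⟩⟩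

theorem mul_def (x y : Md C) : x * y = ⟨x.i + sg x.s (cond x.t y.j y.i), x.j + sg x.s (cond x.t y.i y.j),
  xor x.s y.s, xor x.t y.t⟩ := rfl
theorem one_def : (1 : Md C) = ⟨0, 0, false, false⟩ := rfl
theorem inv_def (x : Md C) : x⁻¹ = ⟨-sg x.s (cond x.t x.j x.i), -sg x.s (cond x.t x.i x.j), x.s, x.t⟩ := rfl

instance instGroupMd : Group (Md C) := Group.ofLeftAxioms
  (by rintro ⟨a, b, _ | _, _ | _⟩ ⟨c, d, _ | _, _ | _⟩ ⟨e, f, s, t⟩ <;> simp [mul_def] <;> constructor <;> abel)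
  (by rintro ⟨a, b, s, t⟩; simp [mul_def, one_def])
  (by rintro ⟨a, b, _ | _, _ | _⟩ <;> simp [mul_def, inv_def, one_def])

/-- The data on `C`. -/
structure CD (h k : C) (π : C →+ ZMod 2) : Prop where
  h0 : h ≠ 0
  hk : k + k = h
  two : ∀ c, c + c = 0 ↔ c = 0 ∨ c = h
  par : ∀ c, π c = 0 → ∃ d, c = d + d

variable {h k : C} {π : C →+ ZMod 2} {x y r : Md C}

theorem pi2 (π : C →+ ZMod 2) (c : C) : π (c + c) = 0 := by rw [map_add]; exact CharTwo.add_self_eq_zero _

theorem sq_st (x : Md C) : (x * x).s = false ∧ (x * x).t = false := by simp [mul_def]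

theorem uv (h : C) : IsConj (⟨h, 0, false, false⟩ : Md C) ⟨0, h, false, false⟩ :=
  isConj_iff.2 ⟨⟨0, 0, false, true⟩, by simp [mul_def, inv_def]⟩

theorem tau (h2 : x * x = 1) (hs : x.s = false) (ht : x.t = true) : IsConj x ⟨0, 0, false, true⟩ := by
  obtain ⟨i, j, s, t⟩ := x
  subst hs ht
  simp [mul_def, one_def] at h2
  exact isConj_iff.2 ⟨⟨j, 0, false, false⟩, by simp [mul_def, inv_def, h2]⟩

theorem four (hs : x.s = true) (ht : x.t = false) (c : Commute r x) : r * r * (r * r) = 1 := by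
  have c' := (c.mul_left c).eq
  have := sq_st r
  generalize r * r = y at c' this
  obtain ⟨i, j, s, t⟩ := x
  obtain ⟨a, b, s', t'⟩ := y
  obtain ⟨rfl, rfl⟩ : s' = false ∧ t' = false := this
  subst hs ht
  simp [mul_def, one_def] at c' ⊢
  exact ⟨by linear_combination (norm := abel1) c'.1, by linear_combination (norm := abel1) c'.2⟩

/-- The character with kernel `A⟨τ⟩`. -/
def chi1 : Md C →* Multiplicative (ZMod 2) :=
  MonoidHom.mk' (fun x => .ofAdd (cond x.s 1 0)) (by
    rintro ⟨a, b, _ | _, t⟩ ⟨c, d, _ | _, t'⟩ <;> simp [mul_def] <;> rfl)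

/-- Another character. -/
def chi7 (π : C →+ ZMod 2) : Md C →* Multiplicative (ZMod 2) :=
  MonoidHom.mk' (fun x => .ofAdd (π x.i + π x.j + cond x.t 1 0)) (by
    rintro ⟨a, b, _ | _, _ | _⟩ ⟨c, d, s, _ | _⟩ <;> rw [← ofAdd_add] <;> congr 1 <;> simp [mul_def] <;>
      generalize π a = a <;> generalize π b = b <;> generalize π c = c <;> generalize π d = d <;> revert a b c d <;>
      decide)

theorem chi7_t (h2 : x * x = 1) (hc : chi7 π x = 1) : x.t = false := by
  obtain ⟨i, j, s, _ | _⟩ := x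
  · rfl
  change Multiplicative.ofAdd (π i + π j + 1) = 1 at hc
  cases s <;> simp [mul_def, one_def] at h2
  · rw [← map_add, h2.1, map_zero] at hc; cases hc
  · rw [add_neg_eq_zero.1 h2.1, ← map_add, pi2] at hc; cases hc

variable (D : CD h k π)
include D

theorem hh : h + h = 0 := (D.two h).2 (.inr rfl)
theorem nh : -h = h := neg_eq_of_add_eq_zero_left (hh D)

theorem omega (h2 : x * x = 1) (hs : x.s = false) (ht : x.t = false) : x = 1 ∨ x = ⟨h, 0, false, false⟩ ∨
    x = ⟨0, h, false, false⟩ ∨ x = ⟨h, h, false, false⟩ := by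
  obtain ⟨i, j, s, t⟩ := x
  subst hs ht
  simp [mul_def, one_def, D.two] at h2 ⊢
  tauto

theorem zc (x : Md C) : Commute x ⟨h, h, false, false⟩ := by
  obtain ⟨i, j, _ | _, _ | _⟩ := x <;> simp [Commute, SemiconjBy, mul_def, nh D, add_comm]

theorem root (h2 : x * x = 1) (n : ¬ (x.s = false ∧ x.t = false)) :
    (∃ w, Commute w x ∧ w * w = ⟨h, h, false, false⟩) ∨ (x.s = true ∧ x.t = false ∧ π (x.i + x.j) ≠ 0) := by
  obtain ⟨i, j, _ | _, _ | _⟩ := x
  · simp at n
  · exact .inl ⟨⟨k, k, false, false⟩, by simp [Commute, SemiconjBy, mul_def, add_comm], by simp [mul_def, D.hk]⟩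
  · refine or_iff_not_imp_right.2 fun e => ?_
    obtain ⟨l, hl⟩ := D.par (i + j) (by simpa using e)
    refine ⟨⟨l - j, j - l + h, false, true⟩, ?_, ?_⟩ <;> simp [Commute, SemiconjBy, mul_def]
    · exact ⟨by linear_combination (norm := abel1) -hl, by linear_combination (norm := abel1) hl + hh D⟩
    · constructor <;> abel
  · exact .inl ⟨⟨k, -k, false, false⟩, by simp [Commute, SemiconjBy, mul_def, add_comm], by
      simp [mul_def, D.hk, ← neg_add, nh D]⟩

theorem odd (hs : x.s = true) (ht : x.t = false) (ho : π (x.i + x.j) ≠ 0) (c : Commute y x) :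
    (y.s = false ∧ y.t = false) ∨ IsConj x y := by
  obtain ⟨i, j, s, t⟩ := x
  subst hs ht
  have hf : ∀ c : C, c + c = 0 → ∃ d, d + d = c := fun c hc => ((D.two c).1 hc).elim
    (fun e => ⟨0, by simp [e]⟩) fun e => ⟨k, e ▸ D.hk⟩
  obtain ⟨a, b, _ | _, _ | _⟩ := y <;> simp [Commute, SemiconjBy, mul_def] at c
  · exact .inl ⟨rfl, rfl⟩
  · exact absurd ((congrArg π (by linear_combination (norm := abel1) -c.1)).trans (pi2 π (a + j))) ho
  · obtain ⟨p, hp⟩ := hf (a - i) (by linear_combination (norm := abel1) c.1)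
    obtain ⟨q, hq⟩ := hf (b - j) (by linear_combination (norm := abel1) c.2)
    refine .inr (isConj_iff.2 ⟨⟨p, q, false, false⟩, ?_⟩)
    simp [mul_def, inv_def]
    exact ⟨by linear_combination (norm := abel1) hp, by linear_combination (norm := abel1) hq⟩
  · exact absurd ((congrArg π (by linear_combination (norm := abel1) -c.1)).trans (pi2 π a)) ho

end Md

open Md

theorem fusion {C : Type*} [AddCommGroup C] {h k : C} {π : C →+ ZMod 2} (D : CD h k π) {G : Type*} [Group G]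
    [Finite G] [IsSimpleGroup G] (S : Sylow 2 G) (e : Md C ≃* S) :
    (∀ x y : G, orderOf x = 2 → orderOf y = 2 → IsConj x y) ∨ ((∀ c : C, c + c + (c + c) = 0) ∧
      ∃ x y : G, orderOf x = 2 ∧ orderOf y = 2 ∧ ¬ IsConj x y ∧ ∀ z : G, orderOf z = 2 → IsConj z x ∨ IsConj z y) := by
  let f : Md C →* G := (S : Subgroup G).subtype.comp e.toMonoidHom
  have fi : Function.Injective f := Subtype.val_injective.comp e.injective
  have fm : ∀ m, f m ∈ (S : Subgroup G) := fun m => (e m).2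
  have fs : ∀ {g}, g ∈ (S : Subgroup G) → ∃ m, f m = g := fun hg =>
    ⟨e.symm ⟨_, hg⟩, congrArg Subtype.val (e.apply_symm_apply _)⟩
  have fc : ∀ {x y}, IsConj x y → IsConj (f x) (f y) := fun c => f.map_isConj c
  obtain ⟨z, hz⟩ : ∃ z : Md C, z = ⟨h, h, false, false⟩ := ⟨_, rfl⟩
  obtain ⟨u, hu⟩ : ∃ u : Md C, u = ⟨h, 0, false, false⟩ := ⟨_, rfl⟩
  obtain ⟨v, hv⟩ : ∃ v : Md C, v = ⟨0, h, false, false⟩ := ⟨_, rfl⟩
  obtain ⟨τ, hτ⟩ : ∃ τ : Md C, τ = ⟨0, 0, false, true⟩ := ⟨_, rfl⟩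
  have o2 : ∀ {m : Md C}, m * m = 1 → m ≠ 1 → orderOf (f m) = 2 := fun a b => by
    rw [orderOf_injective f fi]; exact orderOf_eq_prime (by rw [sq, a]) b
  have zz : z * z = 1 := by simp [hz, mul_def, one_def, hh D]
  have oz := o2 zz (by simp [hz, one_def, D.h0])
  have oτ := o2 (m := τ) (by simp [hτ, mul_def, one_def]) (by simp [hτ, one_def])
  have nc : ¬ ∀ a b : G, a * b = b * a := fun c => D.h0 (by
    have := fi ((map_mul f ⟨k, 0, false, false⟩ ⟨0, 0, true, false⟩).trans ((c _ _).trans (map_mul f _ _).symm))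
    simp [mul_def] at this
    linear_combination (norm := abel1) this - D.hk)
  have cm : commutator G = ⊤ := (IsSimpleGroup.eq_bot_or_eq_top_of_normal _ inferInstance).resolve_left fun c =>
    nc fun a b => commutatorElement_eq_one_iff_mul_comm.1
      (mem_bot.1 (c ▸ commutator_mem_commutator (mem_top a) (mem_top b)))
  have cj2 : ∀ {g : G} {x y : Md C}, f y = g * f x * g⁻¹ → x * x = 1 → y * y = 1 := fun a b => fi (by
    rw [map_mul, a, conj_mul, ← map_mul, b]; simp)
  have cj1 : ∀ {g : G} {x y : Md C}, f y = g * f x * g⁻¹ → x ≠ 1 → y ≠ 1 := fun a b c => b (fi (by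
    rw [c, map_one, eq_comm, conj_eq_one_iff] at a; rw [a, map_one]))
  have cjc : ∀ {g : G} {x y x' y' : Md C}, f y = g * f x * g⁻¹ → f y' = g * f x' * g⁻¹ → Commute x x' →
      Commute y y' := fun a b c => fi (by rw [map_mul, map_mul, a, b, conj_mul, conj_mul, ← map_mul, c.eq, map_mul])
  have tt : ∀ (χ : Md C →* Multiplicative (ZMod 2)) (y r : Md C), y * y = 1 → χ y ≠ 1 → Commute r y →
      ∃ g y' r', f y' = g * f y * g⁻¹ ∧ χ y' = 1 ∧ f r' = g * f r * g⁻¹ := fun χ y r a b c => by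
    let χ' := χ.comp e.symm.toMonoidHom
    have e1 : (χ'.ker.map (S : Subgroup G).subtype).subgroupOf S = χ'.ker :=
      comap_map_eq_self_of_injective (subtype_injective _) _
    have hn : ((χ'.ker.map (S : Subgroup G).subtype).subgroupOf S).Normal := e1.symm ▸ inferInstance
    obtain ⟨g, g1, g2⟩ := Loc.thompson_transfer_cyclic (S := S) (T := χ'.ker.map (S : Subgroup G).subtype)
      (R := zpowers (f r)) (y := f y) (Nat.odd_iff.2 (Nat.two_dvd_ne_zero.1 S.not_dvd_index))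
      (isCyclic_of_injective ((QuotientGroup.kerLift χ').comp
        (QuotientGroup.quotientMulEquivOfEq e1).toMonoidHom)
        ((QuotientGroup.kerLift_injective χ').comp (QuotientGroup.quotientMulEquivOfEq e1).injective))
      (by rw [← map_mul, a, map_one]) (fm y) (by
        rintro ⟨x, hx, h⟩
        obtain rfl : x = e y := Subtype.ext h
        exact b (by simpa [χ'] using hx)) (map_subtype_le _) (cm ▸ mem_top _)
      (S.isPGroup'.to_le (zpowers_le.2 (fm r))) (zpowers_le.2 (mem_centralizer_singleton_iff.2 (c.map f)))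
    obtain ⟨x, hx, h⟩ := g1
    obtain ⟨r', hr⟩ := fs (Loc.cj_le_iff_forall.1 g2 _ (mem_zpowers _))
    exact ⟨g, e.symm x, r', (congrArg Subtype.val (e.apply_symm_apply x)).trans h, hx, hr⟩
  have ex : ∀ x, IsConj (f z) (f x) → ∃ g, f z = g * f x * g⁻¹ ∧ ∀ w, Commute w x → ∃ w', f w' = g * f w * g⁻¹ := by
    intro x c
    obtain ⟨a, ha⟩ := isConj_iff.1 c
    obtain ⟨g, g1, g2⟩ := Loc.exists_extremal (Loc.sylIn_top S) (z := f z) (h := a)
      (R := S ⊓ centralizer {a * f z * a⁻¹}) (fun s hs => by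
        obtain ⟨m, rfl⟩ := fs hs
        exact ((hz ▸ zc D m).map f).eq) (S.isPGroup'.to_le inf_le_left) inf_le_right
    rw [ha] at g1 g2
    exact ⟨g, g1.symm, fun w hw => fs (Loc.cj_le_iff_forall.1 g2 _ ⟨fm w, mem_centralizer_singleton_iff.2 (hw.map f)⟩)⟩
  have cuv : IsConj (f u) (f v) := fc (hu ▸ hv ▸ uv h)
  have cu : IsConj (f z) (f u) := by
    by_contra n
    have n' : ¬ IsConj (f z) (f v) := fun c => n (c.trans cuv.symm)
    have om : ∀ x, IsConj (f z) (f x) → x.s = false → x.t = false → x = z := fun x c a b => by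
      obtain ⟨g, hg⟩ := isConj_iff.1 c
      rcases omega D (cj2 hg.symm zz) a b with d | d | d | d
      exacts [absurd d (cj1 hg.symm (by simp [hz, one_def, D.h0])), absurd (hu ▸ d ▸ c) n, absurd (hv ▸ d ▸ c) n',
        hz ▸ d]
    have od : ∀ x, IsConj (f z) (f x) → x ≠ z → x.s = true ∧ x.t = false ∧ π (x.i + x.j) ≠ 0 := fun x c a => by
      obtain ⟨g', hg'⟩ := isConj_iff.1 c
      refine (root D (cj2 hg'.symm zz) fun b => a (om x c b.1 b.2)).resolve_left ?_
      rintro ⟨w, w1, w2⟩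
      obtain ⟨g, g1, g2⟩ := ex x c
      obtain ⟨w', w3⟩ := g2 w w1
      have e1 : f (w' * w') = g * f z * g⁻¹ := by rw [map_mul, w3, conj_mul, ← map_mul, w2, hz]
      rw [om _ (isConj_iff.2 ⟨g, e1.symm⟩) (sq_st w').1 (sq_st w').2] at e1
      exact a (fi (mul_left_cancel (mul_right_cancel (g1.symm.trans e1))))
    obtain ⟨a, a1, a2⟩ : ∃ g : G, g * f z * g⁻¹ ∈ (S : Subgroup G) ∧ g * f z * g⁻¹ ≠ f z := by
      by_contra c
      push Not at c
      exact Small.not_isolated (fun i => nc i.isMulCommutative.1.1) _ ((Invol.isolated_iff_sylow S oz (fm z)).2 c)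
    obtain ⟨x, hx⟩ := fs a1
    have cx : IsConj (f z) (f x) := isConj_iff.2 ⟨a, hx.symm⟩
    have xz : x ≠ z := fun c => a2 (by rw [← hx, c])
    obtain ⟨x1, x2, x3⟩ := od x cx xz
    obtain ⟨g, g1, g2⟩ := ex x cx
    have ux : Commute u x ∧ Commute v x := by
      obtain ⟨i, j, s, t⟩ := x
      obtain rfl : s = true := x1
      obtain rfl : t = false := x2
      simp [hu, hv, Commute, SemiconjBy, mul_def, nh D, add_comm]
    obtain ⟨u', u1⟩ := g2 u ux.1
    obtain ⟨v', v1⟩ := g2 v ux.2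
    have e0 : u * v = z := by simp [hu, hv, hz, mul_def]
    have e1 : f (u' * v') = g * f z * g⁻¹ := by rw [map_mul, u1, v1, conj_mul, ← map_mul, e0]
    have c1 : IsConj (f z) (f (u' * v')) := isConj_iff.2 ⟨g, e1.symm⟩
    obtain ⟨y1, y2, y3⟩ := od _ c1 fun c => xz (fi (by
      rw [c] at e1; exact (mul_left_cancel (mul_right_cancel (e1.symm.trans g1))).symm))
    have su := (odd D y1 y2 y3 (cjc u1 e1 (hz ▸ zc D u))).resolve_right fun c =>
      n ((c1.trans (fc c)).trans (isConj_iff.2 ⟨g, u1.symm⟩).symm)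
    have sv := (odd D y1 y2 y3 (cjc v1 e1 (hz ▸ zc D v))).resolve_right fun c =>
      n' ((c1.trans (fc c)).trans (isConj_iff.2 ⟨g, v1.symm⟩).symm)
    simp [mul_def, su.1, sv.1] at y1
  have cA : ∀ x, x * x = 1 → x ≠ 1 → x.s = false → x.t = false → IsConj (f x) (f z) := fun x a b c d => by
    rcases omega D a c d with d | d | d | d
    exacts [absurd d b, (hu ▸ d) ▸ cu.symm, (hv ▸ d) ▸ (cu.trans cuv).symm, (hz ▸ d) ▸ .refl _]
  have cB : ∀ x, x * x = 1 → x ≠ 1 → x.s = false → IsConj (f x) (f z) ∨ IsConj (f x) (f τ) := fun x a b c => by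
    cases d : x.t
    exacts [.inl (cA x a b c d), .inr (fc (hτ ▸ tau a c d))]
  have cC : ∀ g : G, orderOf g = 2 → IsConj g (f z) ∨ IsConj g (f τ) := fun g og => by
    obtain ⟨a, ha⟩ : ∃ a : G, a * g * a⁻¹ ∈ (S : Subgroup G) := by
      obtain ⟨a, -, ha⟩ := (Loc.sylIn_top S).exists_conj_le (Q := zpowers g) le_top
        (IsPGroup.of_card (n := 1) (by rw [Nat.card_zpowers, og, pow_one]))
      exact ⟨a, Loc.cj_le_iff_forall.1 ha _ (mem_zpowers g)⟩
    obtain ⟨x, hx⟩ := fs ha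
    have c : IsConj g (f x) := isConj_iff.2 ⟨a, hx.symm⟩
    have x2 : x * x = 1 := fi (by rw [map_mul, hx, conj_mul, ← sq, ← og, pow_orderOf_eq_one]; simp)
    have x1 : x ≠ 1 := fun d => by
      rw [d, map_one, eq_comm, conj_eq_one_iff] at hx; rw [hx, orderOf_one] at og; cases og
    cases d : x.s
    · exact (cB x x2 x1 d).imp c.trans c.trans
    obtain ⟨b, y, -, y1, y2, -⟩ := tt chi1 x 1 x2 (by simp [chi1, d]) (.one_left x)
    have c' := c.trans (isConj_iff.2 ⟨b, y1.symm⟩)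
    exact (cB y (cj2 y1 x2) (cj1 y1 x1) (by cases d' : y.s <;> simp [chi1, d'] at y2 ⊢)).imp c'.trans c'.trans
  by_cases cτ : IsConj (f z) (f τ)
  · exact .inl fun x y a b => ((cC x a).elim id (·.trans cτ.symm)).trans ((cC y b).elim id (·.trans cτ.symm)).symm
  refine .inr ⟨fun c => ?_, _, _, oz, oτ, cτ, cC⟩
  have τ2 : τ * τ = 1 := by simp [hτ, mul_def, one_def]
  obtain ⟨g, y, r, y1, y2, y3⟩ := tt (chi7 π) τ ⟨c, c, false, false⟩ τ2 (by simp [chi7, hτ])
    (by simp [hτ, Commute, SemiconjBy, mul_def])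
  have yt := chi7_t (cj2 y1 τ2) y2
  cases d : y.s
  · exact absurd ((isConj_iff.2 ⟨g, y1.symm⟩).trans (cA y (cj2 y1 τ2) (cj1 y1 (by simp [hτ, one_def])) d yt)).symm cτ
  have := congrArg f (four d yt (cjc y3 y1 (by simp [hτ, Commute, SemiconjBy, mul_def])))
  simp only [map_mul, y3, conj_mul, map_one, conj_eq_one_iff] at this
  simpa [mul_def, one_def] using fi (a₁ := ⟨c, c, false, false⟩ * ⟨c, c, false, false⟩ * (⟨c, c, false, false⟩ *
    ⟨c, c, false, false⟩)) (a₂ := 1) (by simpa only [map_mul, map_one] using this)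

end Cfsg.Agent.Syl2.G2
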