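import Cfsg.Agent.Syl2.G2b
import Cfsg.Agent.Syl2.G2c
import Cfsg.Agent.Syl2.G2d

/-! A Sylow 2-subgroup of `G₂(q)`, `q` odd, is `(C × C) ⋊ (2 × 2)`. -/

set_option autoImplicit false

namespace Cfsg.Agent.Syl2.G2

open Subgroup Md Cfsg.Lie

theorem md_hom {Z L : Type*} [AddCommGroup Z] [Group L] (τ : Z → Z → L) (σ w : L) (κ : Z)
    (hm : ∀ a b c d, τ a b * τ c d = τ (a + c) (b + d)) (hσ : ∀ a b, σ * τ a b = τ (-a) (-b) * σ)
    (hw : ∀ a b, w * τ a b = τ (-b) (-a) * w) (s2 : σ * σ = 1) (w2 : w * w = 1) (c : w * σ * w * σ = τ κ κ) :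
    ∃ f : Md Z →* L, ∀ a b, f ⟨a, b, false, false⟩ = τ a b := by
  have h0 : τ 0 0 = 1 := by simpa using hm 0 0 0 0
  obtain ⟨s, hs⟩ : ∃ s, s = σ * τ (-κ) 0 := ⟨_, rfl⟩
  have a1 : ∀ a b, s * τ a b = τ (-a) (-b) * s := fun a b => by
    rw [hs, ← mul_assoc, ← hσ, mul_assoc, mul_assoc, hm, hm, add_comm a, add_comm b]
  have a2 : s * s = 1 := by
    nth_rewrite 1 [hs, hσ]
    rw [hs, mul_assoc, ← mul_assoc σ, s2, one_mul, hm]; simp [h0]
  obtain ⟨r, hr⟩ : ∃ r, r = w * s := ⟨_, rfl⟩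
  have a3 : ∀ a b, r * τ a b = τ b a * r := fun a b => by
    rw [hr, mul_assoc, a1, ← mul_assoc, hw, neg_neg, neg_neg, mul_assoc]
  have a4 : r * r = 1 := by
    have e1 : τ (-κ) 0 * w = w * τ 0 κ := by rw [hw, neg_zero]
    have e2 : τ 0 κ * σ = σ * τ 0 (-κ) := by rw [hσ, neg_zero, neg_neg]
    calc r * r = w * σ * (τ (-κ) 0 * w) * σ * τ (-κ) 0 := by rw [hr, hs]; simp only [mul_assoc]
      _ = w * σ * w * (τ 0 κ * σ) * τ (-κ) 0 := by rw [e1]; simp only [mul_assoc]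
      _ = w * σ * w * σ * (τ 0 (-κ) * τ (-κ) 0) := by rw [e2]; simp only [mul_assoc]
      _ = 1 := by rw [c, hm, hm]; simp [h0]
  have a5 : r * s = s * r := by
    rw [hr, mul_assoc, a2, mul_one, ← mul_right_inj w, w2, ← mul_assoc, ← hr, a4]
  have b1 : ∀ a b x, s * (τ a b * x) = τ (-a) (-b) * (s * x) := fun a b x => by rw [← mul_assoc, a1, mul_assoc]
  have b2 : ∀ x, s * (s * x) = x := fun x => by rw [← mul_assoc, a2, one_mul]
  have b3 : ∀ a b x, r * (τ a b * x) = τ b a * (r * x) := fun a b x => by rw [← mul_assoc, a3, mul_assoc]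
  have b5 : ∀ x, r * (s * x) = s * (r * x) := fun x => by rw [← mul_assoc, a5, mul_assoc]
  have b6 : ∀ a b c d x, τ a b * (τ c d * x) = τ (a + c) (b + d) * x := fun a b c d x => by rw [← mul_assoc, hm]
  refine ⟨MonoidHom.mk' (fun x => τ x.i x.j * (cond x.s s 1 * cond x.t r 1)) ?_, fun a b => (congrArg _ (one_mul _)).trans (mul_one _)⟩
  rintro ⟨a, b, _ | _, _ | _⟩ ⟨c, d, _ | _, _ | _⟩ <;>
    simp [mul_def, mul_assoc, a1, a2, a3, a4, a5, b1, b2, b3, b5, b6, hm]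

theorem card_Md (C : Type*) : Nat.card (Md C) = 4 * Nat.card C ^ 2 := by
  rw [Nat.card_congr (⟨fun x => (x.i, x.j, x.s, x.t), fun p => ⟨p.1, p.2.1, p.2.2.1, p.2.2.2⟩, fun _ => rfl,
    fun _ => rfl⟩ : Md C ≃ C × C × Bool × Bool)]
  simp [Nat.card_prod]; ring

theorem cd_of {C : Type*} [AddCommGroup C] [Finite C] {h k : C} (h0 : h ≠ 0) (hk : k + k = h)
    (two : ∀ c, c + c = 0 ↔ c = 0 ∨ c = h) :
    (∃ π, CD h k π) ∧ ((∀ c : C, c + c + (c + c) = 0) → Nat.card C = 4) := by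
  let d : C →+ C := AddMonoidHom.id C + AddMonoidHom.id C
  have c1 : Nat.card d.ker = 2 := by
    refine (Nat.card_congr (Equiv.setCongr (s := d.ker) (t := {0, h}) (Set.ext fun c => two c))).trans ?_
    rw [Nat.card_coe_set_eq, Set.ncard_pair h0.symm]
  have c2 := d.ker.card_mul_index
  rw [c1, AddSubgroup.index_ker] at c2
  have c3 : d.range.index = 2 := Nat.eq_of_mul_eq_mul_left (Nat.card_pos (α := d.range))
    (by rw [d.range.card_mul_index, ← c2, mul_comm])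
  refine ⟨?_, fun c4 => ?_⟩
  · let e := addEquivOfPrimeCardEq (p := 2) (G := C ⧸ d.range) (G' := ZMod 2) c3 (Nat.card_zmod 2)
    refine ⟨e.toAddMonoidHom.comp (QuotientAddGroup.mk' _), h0, hk, two, fun c hc => ?_⟩
    obtain ⟨x, hx⟩ := (QuotientAddGroup.eq_zero_iff c).1 (e.map_eq_zero_iff.1 hc)
    exact ⟨x, hx.symm⟩
  · have : d.range = d.ker := le_antisymm (by rintro _ ⟨c, rfl⟩; exact c4 c) fun c hc =>
      ((two c).1 hc).elim (fun e => e ▸ zero_mem _) fun e => ⟨k, e ▸ hk⟩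
    rw [← c2, this, c1]

theorem sylow_md {Z L : Type*} [AddCommGroup Z] [Finite Z] [Group L] [Finite L] {h k : Z} (h0 : h ≠ 0)
    (hk : k + k = h) (two : ∀ c, c + c = 0 ↔ c = 0 ∨ c = h) (f : Md Z →* L)
    (fi : ∀ a b, f ⟨a, b, false, false⟩ = 1 → a = 0 ∧ b = 0) {m : ℕ} (hm : Odd m)
    (hd : Nat.card L ∣ 4 * Nat.card Z ^ 2 * m) (P : Sylow 2 L) : ∃ (C : AddSubgroup Z) (h' k' : C) (π : C →+ ZMod 2),
      CD h' k' π ∧ Nonempty (Md C ≃* P) ∧ ((∀ c : C, c + c + (c + c) = 0) → Nat.card P = 64) := by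
  have fj : Function.Injective f := (injective_iff_map_eq_one f).2 fun x hx => by
    have e : f (x * ⟨k, 0, false, false⟩ * x⁻¹ * ⟨-k, 0, false, false⟩) = 1 := by
      rw [map_mul, map_mul, map_mul, map_inv, hx, one_mul, inv_one, mul_one, ← map_mul, ← f.map_one]
      simp [mul_def, one_def]
    have k0 : k ≠ 0 := fun e => h0 (by rw [← hk, e, add_zero])
    obtain ⟨i, j, _ | _, _ | _⟩ := x <;> simp [mul_def, inv_def] at e
    · obtain ⟨rfl, rfl⟩ := fi _ _ hx; rfl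
    · exact absurd (fi _ _ e).1 (by simpa using k0)
    · exact absurd (by linear_combination (norm := abel1) -(fi _ _ e).1 - hk) h0
    · exact absurd (fi _ _ e).1 (by simpa using k0)
  obtain ⟨Q, hQ⟩ := (show IsPGroup 2 (zpowers (Multiplicative.ofAdd k)) from fun g => ⟨2, by
    obtain ⟨_, n, rfl⟩ := g
    refine Subtype.ext ?_
    have : Multiplicative.ofAdd k ^ (2 ^ 2) = 1 := by
      rw [pow_two, pow_mul, sq, sq, ← ofAdd_add, ← ofAdd_add, hk, (two h).2 (.inr rfl), ofAdd_zero]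
    rw [coe_pow, coe_one, ← zpow_natCast, ← zpow_mul, mul_comm, zpow_mul, zpow_natCast, this, one_zpow]⟩).exists_le_sylow
  let C : AddSubgroup Z := Subgroup.toAddSubgroup' (Q : Subgroup (Multiplicative Z))
  have kC : k ∈ C := hQ (mem_zpowers _)
  obtain ⟨⟨π, D⟩, c4⟩ := cd_of (C := C) (h := ⟨h, hk ▸ add_mem kC kC⟩) (k := ⟨k, kC⟩)
    (fun e => h0 (congrArg Subtype.val e)) (Subtype.ext hk) fun c => by
      rw [Subtype.ext_iff, Subtype.ext_iff, Subtype.ext_iff]; exact two c.1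
  let g : Md C →* Md Z := MonoidHom.mk' (fun x => ⟨x.i, x.j, x.s, x.t⟩) (by
    rintro ⟨a, b, _ | _, _ | _⟩ ⟨c, d, s, t⟩ <;> simp [mul_def])
  have gi : Function.Injective (f.comp g) := fj.comp fun x y e => by
    have e' := Md.ext_iff.1 e
    exact Md.ext (Subtype.ext e'.1) (Subtype.ext e'.2.1) e'.2.2.1 e'.2.2.2
  have e0 := MonoidHom.ofInjective gi
  have cC : Nat.card C = Nat.card Q := rfl
  obtain ⟨n, hn⟩ := IsPGroup.iff_card.1 Q.isPGroup'
  have cR : Nat.card (f.comp g).range = 4 * Nat.card C ^ 2 := by rw [← Nat.card_congr e0.toEquiv, card_Md]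
  let R : Sylow 2 L := (IsPGroup.of_card (G := (f.comp g).range) (n := 2 + n * 2) (by
    rw [cR, cC, hn, pow_add, pow_mul]; rfl)).toSylow fun h2 => by
      have e2 : Nat.card Z = Nat.card Q * (Q : Subgroup (Multiplicative Z)).index := (Q : Subgroup (Multiplicative Z)).card_mul_index.symm
      rw [← (f.comp g).range.card_mul_index, e2, cR, cC, mul_pow, ← mul_assoc,
        mul_assoc (4 * _), Nat.mul_dvd_mul_iff_left (by rw [hn]; positivity)] at hd
      rcases (Nat.Prime.dvd_mul Nat.prime_two).1 (h2.trans hd) with h3 | h3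
      exacts [Q.not_dvd_index (Nat.prime_two.dvd_of_dvd_pow h3), (Nat.not_even_iff_odd.2 hm) (even_iff_two_dvd.2 h3)]
  have e1 : Md C ≃* P := e0.trans (Sylow.equiv R P)
  exact ⟨C, _, _, π, D, ⟨e1⟩, fun c => by rw [← Nat.card_congr e1.toEquiv, card_Md, c4 c]; rfl⟩

/-- The circle group. -/
@[ext] structure Circ (F : Type*) [Field F] where
  /-- cosine -/
  c : F
  /-- sine -/
  s : F
  h : c ^ 2 + s ^ 2 = 1

variable {F : Type*} [Field F]

instance instAddCirc : Add (Circ F) := ⟨fun p q => ⟨p.c * q.c - p.s * q.s, p.s * q.c + p.c * q.s,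
  by linear_combination (q.c ^ 2 + q.s ^ 2) * p.h + q.h⟩⟩
instance instZeroCirc : Zero (Circ F) := ⟨⟨1, 0, by simp⟩⟩
instance instNegCirc : Neg (Circ F) := ⟨fun p => ⟨p.c, -p.s, by linear_combination p.h⟩⟩

theorem Circ.add_c (p q : Circ F) : (p + q).c = p.c * q.c - p.s * q.s := rfl
theorem Circ.add_s (p q : Circ F) : (p + q).s = p.s * q.c + p.c * q.s := rfl
theorem Circ.zero_c : (0 : Circ F).c = 1 := rfl
theorem Circ.zero_s : (0 : Circ F).s = 0 := rfl
theorem Circ.neg_c (p : Circ F) : (-p).c = p.c := rfl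
theorem Circ.neg_s (p : Circ F) : (-p).s = -p.s := rfl

instance instAddGroupCirc : AddGroup (Circ F) :=
  AddGroup.ofLeftAxioms (fun p q r => by ext <;> simp only [Circ.add_c, Circ.add_s] <;> ring)
    (fun p => by ext <;> simp [Circ.add_c, Circ.add_s, Circ.zero_c, Circ.zero_s]) fun p => by
      ext <;> simp only [Circ.add_c, Circ.add_s, Circ.zero_c, Circ.zero_s, Circ.neg_c, Circ.neg_s]
      exacts [by linear_combination p.h, by ring]

instance instAddCommGroupCirc : AddCommGroup (Circ F) where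
  add_comm p q := by ext <;> simp only [Circ.add_c, Circ.add_s] <;> ring

/-- The circle as a subtype. -/
def Circ.equiv : Circ F ≃ {p : F × F // p.1 ^ 2 + p.2 ^ 2 = 1} :=
  ⟨fun p => ⟨(p.c, p.s), p.h⟩, fun p => ⟨p.1.1, p.1.2, p.2⟩, fun _ => rfl, fun _ => rfl⟩

/-- The torus elements. -/
noncomputable def tauE (p q : Circ F) : octAut F :=
  ⟨mkE (tauF p.c p.s q.c q.s) (tauF p.c (-p.s) q.c (-q.s))
    (fun x y => by ext i; fin_cases i <;> simp [tauF] <;> ring)
    (fun c x => by ext i; fin_cases i <;> simp [tauF] <;> ring) fun x => by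
      simpa using tauF_inv (s := -p.s) (t := -q.s) (by linear_combination p.h) (by linear_combination q.h) x,
    tauF_oct p.h q.h⟩

theorem exists_md {a b : F} (hab : a ^ 2 + b ^ 2 = -1) : ∃ f : Md (Circ F) →* octAut F,
    ∀ p q, f ⟨p, q, false, false⟩ = 1 → p = 0 ∧ q = 0 := by
  have s0 : ∀ (p q : Circ F) y, (tauE p q).1 y = tauF p.c p.s q.c q.s y := fun _ _ _ => rfl
  have s1 : ∀ y, sg F y = sgF y := fun _ => rfl
  have s2 : ∀ y, wE hab y = wF a b y := fun _ => rfl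
  obtain ⟨f, hf⟩ := md_hom tauE ⟨sg F, fun x y => by
      simp only [s1]
      ext i; fin_cases i <;> simp [oct, sgF] <;> ring⟩ ⟨wE hab, fun x y => by
      simp only [s2]
      ext i; fin_cases i <;> simp [oct, wF] <;> grind⟩
    ⟨b ^ 2 - a ^ 2, -(2 * a * b), by linear_combination (a ^ 2 + b ^ 2 - 1) * hab⟩
    (fun p q p' q' => Subtype.ext (LinearEquiv.ext fun y => tauF_mul p.c p.s q.c q.s p'.c p'.s q'.c q'.s y))
    (fun p q => Subtype.ext (LinearEquiv.ext fun y => by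
      simp only [coe_mul, LinearEquiv.mul_apply, s0, s1, Circ.neg_c, Circ.neg_s]
      ext i; fin_cases i <;> simp [tauF, sgF] <;> ring))
    (fun p q => Subtype.ext (LinearEquiv.ext fun y => by
      simp only [coe_mul, LinearEquiv.mul_apply, s0, s2, Circ.neg_c, Circ.neg_s]
      ext i; fin_cases i <;> simp [tauF, wF] <;> ring))
    (Subtype.ext (LinearEquiv.ext sgF_sgF)) (Subtype.ext (LinearEquiv.ext (wF_wF hab)))
    (Subtype.ext (LinearEquiv.ext fun y => by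
      simp only [coe_mul, LinearEquiv.mul_apply, s0, s1, s2]
      ext i; fin_cases i <;> simp [tauF, wF, sgF] <;> grind))
  refine ⟨f, fun p q e => ?_⟩
  have e' : tauF p.c p.s q.c q.s ![0, 0, 0, 0, 1, 0, 1, 0] = ![0, 0, 0, 0, 1, 0, 1, 0] :=
    congrArg (fun g : octAut F => g.1 ![0, 0, 0, 0, 1, 0, 1, 0]) ((hf p q).symm.trans e)
  have e4 : p.c = 1 := by simpa [tauF] using congrFun e' 4
  have e5 : p.s = 0 := by simpa [tauF] using congrFun e' 5
  have e6 : q.c = 1 := by simpa [tauF] using congrFun e' 6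
  have e7 : q.s = 0 := by simpa [tauF] using congrFun e' 7
  exact ⟨Circ.ext e4 e5, Circ.ext e6 e7⟩

theorem sylow_chev [Fintype F] (h : Odd (Fintype.card F)) (P : Sylow 2 (chevG2.group F)) :
    ∃ (C : AddSubgroup (Circ F)) (h' k' : C) (π : C →+ ZMod 2),
      CD h' k' π ∧ Nonempty (Md C ≃* P) ∧ ((∀ c : C, c + c + (c + c) = 0) → Nat.card P = 64) := by
  have h2 : (2 : F) ≠ 0 := Ring.two_ne_zero fun e => by
    have := FiniteField.even_card_of_char_two e
    obtain ⟨k, hk⟩ := h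
    omega
  obtain ⟨a, b, hab⟩ : ∃ a b : F, a ^ 2 + b ^ 2 = -1 := by
    obtain ⟨p, hp⟩ := CharP.exists F
    have : NeZero p := ⟨(CharP.char_ne_zero_of_finite F p)⟩
    obtain ⟨a, b, e⟩ := CharP.sq_add_sq F p (-1)
    exact ⟨a, b, by simpa using e⟩
  have n2 : (-1 : F) ≠ 1 := fun e => h2 (by linear_combination -e)
  obtain ⟨f, hf⟩ := exists_md hab
  let e := chevEquiv (K := F) ⟨-1, by simp, n2⟩
  have : Finite (chevG2.group F) := .of_equiv _ e.symm.toEquiv
  have : Finite (Circ F) := .of_equiv _ Circ.equiv.symm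
  obtain ⟨m, hm, e1⟩ := card_circle h
  rw [← Nat.card_eq_fintype_card] at h
  refine sylow_md (h := ⟨-1, 0, by simp⟩) (k := ⟨0, 1, by simp⟩) (fun e => n2 (congrArg Circ.c e))
    (by ext <;> simp [Circ.add_c, Circ.add_s]) (fun c => ⟨fun e => ?_, ?_⟩) (e.symm.toMonoidHom.comp ((toG2 h2).comp f))
    (fun p q e' => hf p q (toG2_injective h2 (e.symm.injective (e'.trans (by simp)))))
    (m := m ^ 2 * (Nat.card F ^ 6 * (Nat.card F ^ 4 + Nat.card F ^ 2 + 1)))
    (hm.pow.mul (h.pow.mul (h.pow.add_odd h.pow).add_one)) ?_ P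
  · have e2 : c.c * c.c - c.s * c.s = 1 := congrArg Circ.c e
    have e3 : c.s = 0 := pow_eq_zero_iff two_ne_zero |>.1 (mul_left_cancel₀ h2 (by linear_combination c.h - e2))
    exact (mul_self_eq_one_iff.1 (by rw [← e2, e3]; simp)).imp (fun e => Circ.ext e e3) fun e => Circ.ext e e3
  · rintro (rfl | rfl)
    exacts [add_zero _, by ext <;> simp [Circ.add_c, Circ.add_s, Circ.zero_c, Circ.zero_s]]
  rw [Nat.card_congr e.toEquiv]
  refine card_G2_dvd.trans (dvd_of_eq ?_)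
  have e2 : 4 * Nat.card (Circ F) ^ 2 * m ^ 2 = (Nat.card F ^ 2 - 1) ^ 2 := by
    rw [e1, Nat.card_congr Circ.equiv]; ring
  rw [← mul_assoc _ (m ^ 2), e2]
  have h1 : 0 < Nat.card F := Nat.card_pos
  generalize Nat.card F = q at h1
  have a1 : 1 ≤ q ^ 2 := Nat.one_le_pow _ _ h1
  have a2 : 1 ≤ q ^ 3 := Nat.one_le_pow _ _ h1
  zify [a1, a2]
  ring

end Cfsg.Agent.Syl2.G2
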